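import Groth.Agent.Lib.FrobDer12.Stalk
import Groth.Agent.Lib.Cohom.LinearLES
import Groth.Agent.Lib.FinCov.Frame
import Groth.Agent.Lib.Euler.Rank
import Groth.Agent.Lib.QCoh.SupportExact
import Groth.Agent.Lib.QCoh.Killed
import Groth.Prelude.Def_Pi1

/-!
# Frobenius pullback is injective on first cohomology when there are no twisted forms
-/

set_option autoImplicit false
set_option linter.all false
set_option backward.isDefEq.respectTransparency false

universe u

open CategoryTheory CategoryTheory.Limits AlgebraicGeometry Opposite TopologicalSpace Abelian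

noncomputable section

namespace GrothLib.FrobDer12

variable {X : Scheme.{u}} (p : ℕ) [Fact p.Prime] [FrobSch.IsCharP X p] (E : X.Modules)

/-- The unit of Frobenius pullback. -/
abbrev fUnit : E ⟶ (Scheme.Modules.pushforward (FrobSch.frob X p)).obj (fM p E) :=
  (Scheme.Modules.pullbackPushforwardAdjunction (FrobSch.frob X p)).unit.app E

/-- The sequence of the unit. -/
abbrev fSeq : ShortComplex X.Modules :=
  ShortComplex.mk (fUnit p E) (cokernel.π (fUnit p E)) (cokernel.condition _)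

variable {S : Scheme.{u}} (f : X ⟶ S) [QuasiSeparated f]

/-- Sections of the Frobenius pullback in the span of inverse images. -/
def IsExpr (W : X.Opens) (t : Γ(fM p E, W)) : Prop :=
  t ∈ Submodule.span Γ(X, W) (Set.range (η p E W))

theorem isExpr_map {W V : X.Opens} (i : V ⟶ W) {t : Γ(fM p E, W)} (ht : IsExpr p E W t) :
    IsExpr p E V ((fM p E).presheaf.map i.op t) := by
  unfold IsExpr at ht ⊢
  induction ht using Submodule.span_induction with
  | mem a ha =>
    obtain ⟨s, rfl⟩ := ha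
    exact Submodule.subset_span ⟨_, η_map p E i s⟩
  | zero => rw [map_zero]; exact Submodule.zero_mem _
  | add a b _ _ ha hb => rw [map_add]; exact Submodule.add_mem _ ha hb
  | smul r a _ ha => erw [Scheme.Modules.map_smul]; exact Submodule.smul_mem _ _ ha

theorem exists_isExpr {n : ℕ} {y : X} (b : Module.Basis (Fin n) (X.presheaf.stalk y) (E.presheaf.stalk y))
    (v : (fM p E).presheaf.stalk y) :
    ∃ (W : X.Opens) (hy : y ∈ W) (t : Γ(fM p E, W)), (fM p E).presheaf.germ W y hy t = v ∧ IsExpr p E W t := by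
  obtain ⟨B, hB⟩ := exists_basis p E b
  have hv : v ∈ Submodule.span (X.presheaf.stalk y) (Set.range B) := B.mem_span v
  induction hv using Submodule.span_induction with
  | mem a ha =>
    obtain ⟨i, rfl⟩ := ha
    obtain ⟨W, hy, s, hs⟩ := TopCat.Presheaf.exists_germ_eq E.presheaf (b i)
    exact ⟨W, hy, η p E W s, by rw [← ηSt_germ, hs, hB], Submodule.subset_span ⟨s, rfl⟩⟩
  | zero => exact ⟨⊤, trivial, 0, map_zero _, Submodule.zero_mem _⟩
  | add a a' _ _ ha ha' =>
    obtain ⟨W, hy, t, rfl, ht⟩ := ha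
    obtain ⟨W', hy', t', rfl, ht'⟩ := ha'
    refine ⟨W ⊓ W', ⟨hy, hy'⟩, (fM p E).presheaf.map (homOfLE inf_le_left).op t +
      (fM p E).presheaf.map (homOfLE inf_le_right).op t', ?_,
      Submodule.add_mem _ (isExpr_map p E _ ht) (isExpr_map p E _ ht')⟩
    rw [map_add, QCoh.germ_map, QCoh.germ_map]
  | smul r a _ ha =>
    obtain ⟨W, hy, t, rfl, ht⟩ := ha
    obtain ⟨W', hy', r', rfl⟩ := X.presheaf.exists_germ_eq r
    refine ⟨W ⊓ W', ⟨hy, hy'⟩, X.presheaf.map (homOfLE inf_le_right).op r' •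
      (fM p E).presheaf.map (homOfLE inf_le_left).op t, ?_, Submodule.smul_mem _ _ (isExpr_map p E _ ht)⟩
    rw [WeakAss.germ_smul, QCoh.germ_map, TopCat.Presheaf.germ_res_apply]

variable (hE : FlatMod.IsFinLocFree E)

include hE in
theorem exists_stalk_basis (y : X) : ∃ n : ℕ,
    Nonempty (Module.Basis (Fin n) (X.presheaf.stalk y) (E.presheaf.stalk y)) := by
  obtain ⟨U, n, e, hy, he⟩ := FinCov.exists_frame_nhd hE y
  exact ⟨n, Euler.stalk_basis_of_frame he hy⟩

/-- The rank at a point. -/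
def rk (y : X) : ℕ := (exists_stalk_basis E hE y).choose

/-- A basis of the stalk. -/
def bE (y : X) : Module.Basis (Fin (rk E hE y)) (X.presheaf.stalk y) (E.presheaf.stalk y) :=
  (exists_stalk_basis E hE y).choose_spec.some

/-- The induced basis of the stalk of the pullback. -/
def bM (y : X) : Module.Basis (Fin (rk E hE y)) (X.presheaf.stalk y) ((fM p E).presheaf.stalk y) :=
  (exists_basis p E (bE E hE y)).choose

theorem bM_apply (y : X) (i : Fin (rk E hE y)) : bM p E hE y i = ηSt p E y (bE E hE y i) :=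
  (exists_basis p E (bE E hE y)).choose_spec i

/-- The canonical connection on stalks. -/
def conn (y : X) : (fM p E).presheaf.stalk y →+ (CohB1.tensorMod (fM p E) (Ω f)).presheaf.stalk y :=
  AddMonoidHom.mk' (nabla p E f (bM p E hE y)) (nabla_add p E f _)

theorem conn_ηSt (y : X) (u : E.presheaf.stalk y) : conn p E f hE y (ηSt p E y u) = 0 :=
  nabla_ηSt p E f _ _ (bM_apply p E hE y) u

theorem exists_conn_section {W : X.Opens} {t : Γ(fM p E, W)} (ht : IsExpr p E W t) :
    ∃ τ : Γ(CohB1.tensorMod (fM p E) (Ω f), W), ∀ (y : X) (hy : y ∈ W),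
      conn p E f hE y ((fM p E).presheaf.germ W y hy t) =
        (CohB1.tensorMod (fM p E) (Ω f)).presheaf.germ W y hy τ := by
  unfold IsExpr at ht
  induction ht using Submodule.span_induction with
  | mem a ha =>
    obtain ⟨s, rfl⟩ := ha
    exact ⟨0, fun y hy => by rw [← ηSt_germ, conn_ηSt, map_zero]⟩
  | zero => exact ⟨0, fun y hy => by rw [map_zero, map_zero, map_zero]⟩
  | add a b _ _ ha hb =>
    obtain ⟨τ, hτ⟩ := ha
    obtain ⟨σ, hσ⟩ := hb
    exact ⟨τ + σ, fun y hy => by rw [map_add, map_add, hτ, hσ, map_add]⟩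
  | smul r a _ ha =>
    obtain ⟨τ, hτ⟩ := ha
    refine ⟨r • τ + (show Γ(CohB1.tensorMod (fM p E) (Ω f), W) from
      SecTwist.tmul (fM p E) (Ω f) W a ((OmegaSh.dOmega f).app W r)), fun y hy => ?_⟩
    rw [map_add, Ref1.germ_tmul, WeakAss.germ_smul, WeakAss.germ_smul, ← D_germ, ← hτ]
    exact nabla_smul p E f (bM p E hE y) _ _

theorem fUnit_app_injective (hN : Pi1.IsNormalScheme X) (hE : FlatMod.IsFinLocFree E) (U : X.Opens) :
    Function.Injective ((fUnit p E).app U) := by
  refine (injective_iff_map_eq_zero _).2 fun s hs => QCoh.section_eq_zero_of_germ E s fun y hy => ?_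
  haveI := (hN y).1
  obtain ⟨n, ⟨b⟩⟩ := exists_stalk_basis E hE y
  refine ηSt_injective p E b ?_
  rw [ηSt_zero, ηSt_germ]
  exact (congrArg _ hs).trans (map_zero _)

variable (hN : Pi1.IsNormalScheme X) (hperf : ∀ (y : X) (r : S.presheaf.stalk (f y)), ∃ r', r' ^ p = r)

include hE hN in
theorem exists_preimage {U : X.Opens} (d : Γ(fM p E, U))
    (hd : (cokernel.π (fUnit p E)).app U d = 0) : ∃ s, η p E U s = d := by
  haveI : Mono (fUnit p E) := QCoh.mono_of_app_injective _ (fUnit_app_injective p E hN hE)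
  exact QCoh.app_exact (S := fSeq p E) { exact := ShortComplex.exact_cokernel _ } U d hd

include hE hN hperf in
/-- Without twisted forms the cokernel of the unit has no global sections. -/
theorem coker_section_eq_zero
    (h0 : ∀ σ : Γ(CohB1.tensorMod (fM p E) (Ω f), ⊤), σ = 0)
    (c : Γ(cokernel (fUnit p E), ⊤)) : c = 0 := by
  classical
  let B := cokernel (fUnit p E)
  let T := CohB1.tensorMod (fM p E) (Ω f)
  have hloc : ∀ y : X, ∃ (V : X.Opens) (_ : y ∈ V) (t : Γ(fM p E, V)) (τ : Γ(T, V)),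
      B.presheaf.map (homOfLE le_top).op c = (cokernel.π (fUnit p E)).app V t ∧
      ∀ (z : X) (hz : z ∈ V), conn p E f hE z ((fM p E).presheaf.germ V z hz t) = T.presheaf.germ V z hz τ := by
    intro y
    obtain ⟨e, he⟩ := QCoh.stalkLin_surjective (cokernel.π (fUnit p E)) y (B.presheaf.germ ⊤ y trivial c)
    obtain ⟨V, hV, s, rfl⟩ := TopCat.Presheaf.exists_germ_eq
      ((Scheme.Modules.pushforward (FrobSch.frob X p)).obj (fM p E)).presheaf e
    rw [QCoh.stalkLin_germ] at he
    obtain ⟨W, hW, iV, iT, e'⟩ := TopCat.Presheaf.germ_eq B.presheaf y hV (Opens.mem_top y) _ _ he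
    obtain ⟨n, ⟨b⟩⟩ := exists_stalk_basis E hE y
    obtain ⟨W', hW', t, ht, hexp⟩ := exists_isExpr p E b ((fM p E).presheaf.germ V y hV s)
    obtain ⟨W'', hW'', iA, iB, e''⟩ := TopCat.Presheaf.germ_eq (fM p E).presheaf y hW' hV _ _ ht
    have hexp' := isExpr_map p E (homOfLE (inf_le_right.trans iA.le : W ⊓ W'' ≤ W')) hexp
    obtain ⟨τ, hτ⟩ := exists_conn_section p E f hE hexp'
    refine ⟨W ⊓ W'', ⟨hW, hW''⟩, _, τ, ?_, hτ⟩
    rw [show (homOfLE (inf_le_right.trans iA.le : W ⊓ W'' ≤ W')).op = iA.op ≫ (homOfLE inf_le_right).op from rfl,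
      Functor.map_comp, CategoryTheory.comp_apply, e'',
      show (homOfLE le_top : W ⊓ W'' ⟶ ⊤).op = iT.op ≫ (homOfLE inf_le_left).op from rfl,
      Functor.map_comp, CategoryTheory.comp_apply, ← e',
      ← CategoryTheory.comp_apply (B.presheaf.map _), ← Functor.map_comp,
      ← CategoryTheory.comp_apply ((fM p E).presheaf.map _), ← Functor.map_comp]
    exact QCoh.map_app (cokernel.π (fUnit p E)) (homOfLE inf_le_left ≫ iV) s
  choose V hyV t τ ht hτ using hloc
  have hgerm : ∀ (a b z : X) (ha : z ∈ V a) (hb : z ∈ V b),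
      T.presheaf.germ (V a) z ha (τ a) = T.presheaf.germ (V b) z hb (τ b) := by
    intro a b z ha hb
    have hd : (cokernel.π (fUnit p E)).app (V a ⊓ V b)
        ((fM p E).presheaf.map (homOfLE inf_le_left).op (t a) - (fM p E).presheaf.map (homOfLE inf_le_right).op (t b)) = 0 := by
      refine (map_sub _ _ _).trans (sub_eq_zero.2 ?_)
      refine (QCoh.map_app _ _ _).symm.trans (Eq.trans ?_ (QCoh.map_app _ _ _))
      rw [← ht, ← ht, ← CategoryTheory.comp_apply, ← Functor.map_comp, ← CategoryTheory.comp_apply, ← Functor.map_comp]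
      rfl
    obtain ⟨s, hs⟩ := exists_preimage p E hE hN _ hd
    have h1 := conn_ηSt p E f hE z (E.presheaf.germ (V a ⊓ V b) z ⟨ha, hb⟩ s)
    rw [ηSt_germ, hs, map_sub, map_sub, QCoh.germ_map, QCoh.germ_map, hτ, hτ] at h1
    exact sub_eq_zero.1 h1
  let Tsh : TopCat.Sheaf Ab.{u} X.carrier := ⟨T.presheaf, T.isSheaf⟩
  have hcompat : TopCat.Presheaf.IsCompatible (C := Ab.{u}) T.presheaf V τ := fun a b =>
    TopCat.Presheaf.section_ext Tsh _ _ _ fun z hz => by
      erw [TopCat.Presheaf.germ_res_apply, TopCat.Presheaf.germ_res_apply]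
      exact hgerm a b z hz.1 hz.2
  obtain ⟨σ, hσ, -⟩ := Tsh.existsUnique_gluing' V ⊤ (fun _ => homOfLE le_top)
    (fun x _ => Opens.mem_iSup.2 ⟨x, hyV x⟩) τ hcompat
  refine QCoh.section_eq_zero_of_germ B c fun y _ => ?_
  have hy0 : conn p E f hE y ((fM p E).presheaf.germ (V y) y (hyV y) (t y)) = 0 := by
    rw [hτ, ← show T.presheaf.map (homOfLE le_top).op σ = τ y from hσ y, h0 σ, map_zero, map_zero]
  haveI := (hN y).1
  haveI := (hN y).2
  obtain ⟨u', hu⟩ := exists_of_nabla_eq_zero p E f _ (bE E hE y) (bM_apply p E hE y) (hperf y) _ hy0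
  obtain ⟨W, hW, s, rfl⟩ := TopCat.Presheaf.exists_germ_eq E.presheaf u'
  rw [ηSt_germ] at hu
  obtain ⟨W', hW', iW, iV, e⟩ := TopCat.Presheaf.germ_eq (fM p E).presheaf y hW (hyV y) _ _ hu
  rw [← QCoh.germ_map B (homOfLE le_top : W' ⟶ ⊤) hW']
  refine (congrArg (B.presheaf.germ W' y hW') ?_).trans (map_zero _)
  rw [show (homOfLE le_top : W' ⟶ ⊤).op = (homOfLE le_top : V y ⟶ ⊤).op ≫ iV.op from rfl,
    Functor.map_comp, CategoryTheory.comp_apply, ht, QCoh.map_app]
  erw [← e, ← η_map p E iW s]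
  exact congr($((congrArg (fun φ => Scheme.Modules.Hom.app φ W') (cokernel.condition (fUnit p E))))
    (E.presheaf.map iW.op s))

end GrothLib.FrobDer12

namespace GrothLib.FrobDer12

variable {X : Scheme.{u}}

theorem sections_eq_zero_of_subsingleton_HH (M : X.Modules) (h : Subsingleton (Coh.HH X M 0))
    (σ : Γ(M, ⊤)) : σ = 0 :=
  haveI := h
  haveI : Subsingleton ((Coh.toAb M).obj.obj (op ⊤)) :=
    ((Cohom.HEquivTop (Coh.toAb M) 0).trans (Cohom.H0Equiv (Coh.toAb M) ⊤)).symm.toEquiv.subsingleton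
  @Subsingleton.elim ((Coh.toAb M).obj.obj (op ⊤)) this σ 0

theorem subsingleton_HH_of_sections (M : X.Modules) (h : ∀ σ : Γ(M, ⊤), σ = 0) :
    Subsingleton (Coh.HH X M 0) :=
  haveI : Subsingleton ((Coh.toAb M).obj.obj (op ⊤)) := subsingleton_of_forall_eq 0 h
  ((Cohom.HEquivTop (Coh.toAb M) 0).trans (Cohom.H0Equiv (Coh.toAb M) ⊤)).toEquiv.subsingleton

/-- Without twisted forms, Frobenius pullback is injective on first cohomology. -/
theorem injective_fUnit_H1 (p : ℕ) [Fact p.Prime] [FrobSch.IsCharP X p] (k : Type u) [CommRing k]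
    [X.Over (Spec (CommRingCat.of k))] [QuasiSeparated (X ↘ Spec (CommRingCat.of k))]
    (hperf : ∀ (y : X) (r : (Spec (CommRingCat.of k)).presheaf.stalk ((X ↘ Spec (CommRingCat.of k)) y)),
      ∃ r', r' ^ p = r)
    (hN : Pi1.IsNormalScheme X) (E : X.Modules) (hE : FlatMod.IsFinLocFree E)
    (h0 : Subsingleton (Coh.HH X (CohB1.tensorMod (fM p E) (Omega.sheaf (X ↘ Spec (CommRingCat.of k)))) 0)) :
    Function.Injective (Cohom.hhMap k (fUnit p E) 1) := by
  haveI : Mono (fUnit p E) := QCoh.mono_of_app_injective _ (fUnit_app_injective p E hN hE)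
  have hS : (fSeq p E).ShortExact := { exact := ShortComplex.exact_cokernel _ }
  have : Subsingleton (Coh.HH X (fSeq p E).X₃ 0) :=
    subsingleton_HH_of_sections _ (coker_section_eq_zero p E _ hE hN hperf
      (sections_eq_zero_of_subsingleton_HH _ h0))
  refine (injective_iff_map_eq_zero _).2 fun x hx => ?_
  obtain ⟨z, rfl⟩ := (Cohom.exact₁ (A := k) hS 0 x).1 hx
  rw [Subsingleton.elim z 0, map_zero]

end GrothLib.FrobDer12

namespace GrothLib.FrobDer12

/-- The stalks of the spectrum of a perfect field are perfect. -/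
theorem exists_pow_stalk_spec (k : Type u) [Field k] (p : ℕ) (hroot : ∀ a : k, ∃ b, b ^ p = a)
    (z : Spec (CommRingCat.of k)) (r : (Spec (CommRingCat.of k)).presheaf.stalk z) :
    ∃ r', r' ^ p = r := by
  let S := Spec (CommRingCat.of k)
  let e : Γ(S, ⊤) ≃+* k := (Scheme.ΓSpecIso (CommRingCat.of k)).commRingCatIsoToRingEquiv
  have hS : IsAffineOpen (⊤ : S.Opens) := isAffineOpen_top S
  let w : (⊤ : S.Opens) := ⟨z, trivial⟩
  letI : Algebra Γ(S, ⊤) (S.presheaf.stalk z) := S.presheaf.algebra_section_stalk w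
  haveI : IsLocalization.AtPrime (S.presheaf.stalk z) (hS.primeIdealOf w).asIdeal := hS.isLocalization_stalk w
  obtain ⟨a, c, rfl⟩ := IsLocalization.exists_mk'_eq (hS.primeIdealOf w).asIdeal.primeCompl r
  have hc : (c : Γ(S, ⊤)) ≠ 0 := fun h => c.2 (h ▸ Ideal.zero_mem _)
  obtain ⟨b, hb⟩ := hroot (e a / e c)
  refine ⟨algebraMap Γ(S, ⊤) (S.presheaf.stalk z) (e.symm b), ?_⟩
  rw [← map_pow, eq_comm, IsLocalization.mk'_eq_iff_eq_mul, ← map_mul]
  refine congrArg _ (e.injective ?_)
  rw [map_mul, map_pow, e.apply_symm_apply, hb, div_mul_cancel₀]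
  exact fun h => hc (e.injective (h.trans (map_zero e).symm))

end GrothLib.FrobDer12
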