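import Groth.Agent.Lib.FrobDer12.Stalk
import Groth.Agent.Lib.Ref1.Unit
import Groth.Agent.Lib.ZClos.Basic
import Groth.Agent.Lib.QCoh.SupportExact
import Groth.Agent.Lib.Euler.Coh
import Groth.Agent.Lib.FinCov.Frame
import Groth.Agent.Lib.Euler.Rank
import Groth.Agent.Lib.Seesaw26.Scheme
import Groth.Agent.Lib.OmegaFree.Basic

/-!
# Frobenius pullback of an invertible module is its `p`-th power
-/

set_option autoImplicit false
set_option linter.all false
set_option backward.isDefEq.respectTransparency false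

universe u

open CategoryTheory CategoryTheory.Limits AlgebraicGeometry Opposite TopologicalSpace

noncomputable section

namespace GrothLib.FrobDer12

variable {X : Scheme.{u}} (L : X.Modules)

/-- The powers of a local section. -/
def powSec : (n : ℕ) → (U : X.Opens) → Γ(L, U) → Γ(CohB1.tensorPow L n, U)
  | 0, U, _ => (1 : Γ(X, U))
  | n + 1, U, s => SecTwist.tmul (CohB1.tensorPow L n) L U (powSec n U s) s

theorem powSec_map {U V : X.Opens} (i : V ⟶ U) (s : Γ(L, U)) : ∀ n : ℕ,
    (CohB1.tensorPow L n).presheaf.map i.op (powSec L n U s) = powSec L n V (L.presheaf.map i.op s)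
  | 0 => PresheafOfModules.unit_map_one _ _
  | n + 1 => by
    refine (SecTwist.map_tmul (CohB1.tensorPow L n) L i (powSec L n U s) s).trans ?_
    exact congrArg (fun t => SecTwist.tmul (CohB1.tensorPow L n) L V t (L.presheaf.map i.op s)) (powSec_map i s n)

/-- The powers of a germ. -/
def powGerm (y : X) : (n : ℕ) → L.presheaf.stalk y → (CohB1.tensorPow L n).presheaf.stalk y
  | 0, _ => (Coh.structureModule X).presheaf.germ ⊤ y trivial (1 : Γ(X, ⊤))
  | n + 1, v => Ref1.tmulStalk (CohB1.tensorPow L n) L y (powGerm y n v) v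

theorem germ_powSec {U : X.Opens} {y : X} (hy : y ∈ U) (s : Γ(L, U)) : ∀ n : ℕ,
    (CohB1.tensorPow L n).presheaf.germ U y hy (powSec L n U s) = powGerm L y n (L.presheaf.germ U y hy s)
  | 0 => by
    have h : (Coh.structureModule X).presheaf.map (homOfLE (le_top : U ≤ ⊤)).op (1 : Γ(X, ⊤)) = (1 : Γ(X, U)) :=
      PresheafOfModules.unit_map_one _ _
    show (Coh.structureModule X).presheaf.germ U y hy (1 : Γ(X, U)) = _
    rw [← h]
    exact TopCat.Presheaf.germ_res_apply _ _ _ _ _
  | n + 1 => by
    refine (Ref1.germ_tmul (CohB1.tensorPow L n) L hy (powSec L n U s) s).trans ?_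
    rw [germ_powSec hy s n]
    rfl

theorem powGerm_smul (y : X) (a : X.presheaf.stalk y) (v : L.presheaf.stalk y) : ∀ n : ℕ,
    powGerm L y n (a • v) = a ^ n • powGerm L y n v
  | 0 => by rw [pow_zero, one_smul]; rfl
  | n + 1 => by
    show Ref1.tmulStalk _ L y (powGerm L y n (a • v)) (a • v) = a ^ (n + 1) • Ref1.tmulStalk _ L y (powGerm L y n v) v
    rw [powGerm_smul y a v n, map_smul, map_smul, LinearMap.smul_apply, smul_smul, pow_succ']

theorem gen_powGerm {y : X} {g : L.presheaf.stalk y} (hg : Ref1.Gen L y g) : ∀ n : ℕ,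
    Ref1.Gen (CohB1.tensorPow L n) y (powGerm L y n g)
  | 0 => by
    have h : HomSh.unitStalk y 1 = powGerm L y 0 g :=
      LinearMap.toSpanSingleton_apply_one (X.presheaf.stalk y) _ _
    exact h ▸ Ref1.gen_unitStalk y
  | n + 1 => Ref1.Gen.tmulStalk (CohB1.tensorPow L n) L (gen_powGerm hg n) hg

theorem gen_basis (hL : PicF.IsInvertible L) (y : X) :
    ∃ b : Module.Basis (Fin 1) (X.presheaf.stalk y) (L.presheaf.stalk y), Ref1.Gen L y (b 0) := by
  obtain ⟨b⟩ := OmegaFree.exists_basis_stalk ((Seesaw26.isInvertible_iff_rank_one L).2 hL) y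
  refine ⟨b, fun c c' h => ?_, fun v => ⟨b.repr v 0, ?_⟩⟩
  · simpa using congrArg (fun z => b.repr z 0) h
  · conv_rhs => rw [← b.sum_repr v]
    simp

variable (p : ℕ) [Fact p.Prime] [FrobSch.IsCharP X p]

theorem powGerm_add (hL : PicF.IsInvertible L) (y : X) (v w : L.presheaf.stalk y) :
    powGerm L y p (v + w) = powGerm L y p v + powGerm L y p w := by
  obtain ⟨b, hb⟩ := gen_basis L hL y
  obtain ⟨a, rfl⟩ := hb.2 v
  obtain ⟨c, rfl⟩ := hb.2 w
  dsimp only
  rw [← add_smul, powGerm_smul, powGerm_smul, powGerm_smul, ← add_smul]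
  congr 1
  exact map_add (FrobSch.powHom p (X.presheaf.stalk y) (natCast_stalk p y)) a c

theorem powSec_add (hL : PicF.IsInvertible L) (U : X.Opens) (s t : Γ(L, U)) :
    powSec L p U (s + t) = powSec L p U s + powSec L p U t :=
  sub_eq_zero.1 (QCoh.section_eq_zero_of_germ _ _ fun y hy => by
    rw [map_sub, map_add, germ_powSec, germ_powSec, germ_powSec, map_add, powGerm_add L p hL, sub_self])

theorem powSec_smul (U : X.Opens) (a : Γ(X, U)) (s : Γ(L, U)) :
    powSec L p U (a • s) = a ^ p • powSec L p U s :=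
  sub_eq_zero.1 (QCoh.section_eq_zero_of_germ _ _ fun y hy => by
    rw [map_sub, germ_powSec, WeakAss.germ_smul, WeakAss.germ_smul, germ_powSec, powGerm_smul, map_pow,
      sub_self])

variable (hL : PicF.IsInvertible L)

/-- The power map into the pushforward along Frobenius. -/
def powHom : L ⟶ (Scheme.Modules.pushforward (FrobSch.frob X p)).obj (CohB1.tensorPow L p) :=
  ⟨PresheafOfModules.homMk
    { app := fun V => AddCommGrpCat.ofHom (AddMonoidHom.mk' (powSec L p V.unop) (powSec_add L p hL V.unop))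
      naturality := fun V W i => AddCommGrpCat.ext fun s => (powSec_map L i.unop s p).symm }
    (fun V r s => powSec_smul L p V.unop r s)⟩

/-- The comparison of the Frobenius pullback with the power. -/
def toPow : fM p L ⟶ CohB1.tensorPow L p :=
  ((Scheme.Modules.pullbackPushforwardAdjunction (FrobSch.frob X p)).homEquiv _ _).symm (powHom L p hL)

theorem toPow_η (U : X.Opens) (s : Γ(L, U)) : (toPow L p hL).app U (η p L U s) = powSec L p U s := by
  have h := ((Scheme.Modules.pullbackPushforwardAdjunction (FrobSch.frob X p)).homEquiv _ _).apply_symm_apply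
    (powHom L p hL)
  rw [Adjunction.homEquiv_unit] at h
  exact congr($(congrArg (fun φ => Scheme.Modules.Hom.app φ U) h) s)

theorem toPow_ηSt (y : X) (v : L.presheaf.stalk y) :
    QCoh.stalkLin (toPow L p hL) y (ηSt p L y v) = powGerm L y p v := by
  obtain ⟨U, hy, s, rfl⟩ := TopCat.Presheaf.exists_germ_eq L.presheaf v
  rw [ηSt_germ, QCoh.stalkLin_germ, toPow_η, germ_powSec]

theorem isIso_toPow : IsIso (toPow L p hL) := by
  refine ZClosure.isIso_of_stalk _ fun y => ?_
  suffices h : Function.Bijective (QCoh.stalkLin (toPow L p hL) y) from h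
  obtain ⟨b, hb⟩ := gen_basis L hL y
  obtain ⟨B, hB⟩ := exists_basis p L b
  have hg := gen_powGerm L hb p
  have key : ∀ v, QCoh.stalkLin (toPow L p hL) y v = B.repr v 0 • powGerm L y p (b 0) := fun v => by
    conv_lhs => rw [← B.sum_repr v]
    simp [hB, toPow_ηSt]
  refine ⟨fun v w h => B.repr.injective (Finsupp.ext fun i => ?_), fun z => ?_⟩
  · rw [key, key] at h
    rw [Subsingleton.elim i 0]
    exact hg.1 h
  · obtain ⟨a, rfl⟩ := hg.2 z
    exact ⟨a • B 0, by rw [key]; simp⟩

end GrothLib.FrobDer12
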