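import Groth.Agent.Lib.QCoh.PullbackSections
import Groth.Agent.Lib.OmegaUniv.Stalk
import Groth.Agent.Lib.KerDField.Basic
import Groth.Agent.Lib.Ref1.Tensor
import Groth.Agent.S5005
import Groth.Prelude.Def_Frob

/-!
# Frobenius pullbacks of modules and their canonical connection, on stalks
-/

set_option autoImplicit false
set_option linter.all false
set_option backward.isDefEq.respectTransparency false

universe u

open CategoryTheory CategoryTheory.Limits AlgebraicGeometry Opposite TopologicalSpace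
open scoped TensorProduct

noncomputable section

namespace GrothLib.FrobDer12

/-- A basis of a module gives a basis of its extension of scalars. -/
theorem exists_basis_extendScalars {R S : Type u} [CommRing R] [CommRing S] (f : R →+* S)
    (N : ModuleCat.{u} R) (M : ModuleCat.{u} S) (e : M ≅ (ModuleCat.extendScalars f).obj N)
    (g : N → M)
    (hg : letI := f.toAlgebra; ∀ v, (e.hom.hom (g v) : S ⊗[R] N) = (1 : S) ⊗ₜ[R] v)
    {ι : Type*} (b : Module.Basis ι R N) : ∃ B : Module.Basis ι S M, ∀ i, B i = g (b i) := by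
  letI := f.toAlgebra
  refine ⟨(b.baseChange S).map (e.toLinearEquiv.symm : _ ≃ₗ[S] M), fun i => ?_⟩
  rw [Module.Basis.map_apply, LinearEquiv.symm_apply_eq, Module.Basis.baseChange_apply]
  exact (hg _).symm

variable {X : Scheme.{u}} (p : ℕ) [Fact p.Prime] [FrobSch.IsCharP X p] (E : X.Modules)

/-- The Frobenius pullback. -/
abbrev fM : X.Modules := (Scheme.Modules.pullback (FrobSch.frob X p)).obj E

/-- The inverse image of a section. -/
def η (U : X.Opens) : Γ(E, U) →+ Γ(fM p E, U) :=
  (((Scheme.Modules.pullbackPushforwardAdjunction (FrobSch.frob X p)).unit.app E).app U).hom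

theorem η_smul (U : X.Opens) (a : Γ(X, U)) (s : Γ(E, U)) : η p E U (a • s) = a ^ p • η p E U s :=
  Scheme.Modules.Hom.app_smul ((Scheme.Modules.pullbackPushforwardAdjunction (FrobSch.frob X p)).unit.app E) a s

theorem η_map {U V : X.Opens} (i : V ⟶ U) (s : Γ(E, U)) :
    η p E V (E.presheaf.map i.op s) = (fM p E).presheaf.map i.op (η p E U s) :=
  congr($((Scheme.Modules.Hom.mapPresheaf
    ((Scheme.Modules.pullbackPushforwardAdjunction (FrobSch.frob X p)).unit.app E)).naturality i.op) s)

theorem frobStalk (y : X) (r : X.presheaf.stalk y) :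
    ((FrobSch.frob X p).stalkMap y).hom r = r ^ p := by
  obtain ⟨U, hy, s, rfl⟩ := X.presheaf.exists_germ_eq r
  refine (Scheme.Hom.germ_stalkMap_apply (FrobSch.frob X p) U y hy s).trans ?_
  exact (congrArg _ (FrobSch.frob_app X p U s)).trans (map_pow _ _ _)

theorem natCast_stalk (y : X) : (p : X.presheaf.stalk y) = 0 := by
  rw [← map_natCast (X.presheaf.germ ⊤ y trivial).hom, FrobSch.IsCharP.natCast_eq_zero, map_zero]

/-- The inverse image of a germ. -/
def ηSt (y : X) (v : E.presheaf.stalk y) : (fM p E).presheaf.stalk y :=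
  letI := ((FrobSch.frob X p).stalkMap y).hom.toAlgebra
  ((QCoh.stalkPullbackIso (FrobSch.frob X p) y).app E).inv.hom
    ((1 : X.presheaf.stalk y) ⊗ₜ[X.presheaf.stalk ((FrobSch.frob X p) y)] v)

theorem ηSt_germ {U : X.Opens} {y : X} (hy : y ∈ U) (s : Γ(E, U)) :
    ηSt p E y (E.presheaf.germ U y hy s) = (fM p E).presheaf.germ U y hy (η p E U s) := by
  have h := QCoh.stalkPullbackIso_germ (FrobSch.frob X p) E (y := y) (U := U) hy s
  exact (congrArg (((QCoh.stalkPullbackIso (FrobSch.frob X p) y).app E).inv.hom) h.symm).trans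
    (((QCoh.stalkPullbackIso (FrobSch.frob X p) y).app E).toLinearEquiv.symm_apply_apply _)

theorem ηSt_add (y : X) (v w : E.presheaf.stalk y) : ηSt p E y (v + w) = ηSt p E y v + ηSt p E y w := by
  unfold ηSt
  erw [TensorProduct.tmul_add]
  exact map_add _ _ _

theorem ηSt_zero (y : X) : ηSt p E y 0 = 0 := by
  have h := ηSt_add p E y 0 0
  rw [add_zero] at h
  exact left_eq_add.1 h

theorem ηSt_smul (y : X) (r : X.presheaf.stalk y) (v : E.presheaf.stalk y) :
    ηSt p E y (r • v) = r ^ p • ηSt p E y v := by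
  obtain ⟨U, hU, a, rfl⟩ := X.presheaf.exists_germ_eq r
  obtain ⟨V, hV, s, rfl⟩ := TopCat.Presheaf.exists_germ_eq E.presheaf v
  rw [← X.presheaf.germ_res_apply (homOfLE (inf_le_left : U ⊓ V ≤ U)) y ⟨hU, hV⟩ a,
    ← TopCat.Presheaf.germ_res_apply E.presheaf (homOfLE (inf_le_right : U ⊓ V ≤ V)) y ⟨hU, hV⟩ s,
    ← WeakAss.germ_smul, ηSt_germ, ηSt_germ, η_smul, WeakAss.germ_smul, map_pow]

theorem ηSt_sum (y : X) {ι : Type*} (t : Finset ι) (v : ι → E.presheaf.stalk y) :
    ηSt p E y (∑ i ∈ t, v i) = ∑ i ∈ t, ηSt p E y (v i) :=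
  map_sum (AddMonoidHom.mk' (ηSt p E y) (ηSt_add p E y)) _ _

theorem exists_basis {y : X} {ι : Type*} (b : Module.Basis ι (X.presheaf.stalk y) (E.presheaf.stalk y)) :
    ∃ B : Module.Basis ι (X.presheaf.stalk y) ((fM p E).presheaf.stalk y), ∀ i, B i = ηSt p E y (b i) :=
  exists_basis_extendScalars (R := X.presheaf.stalk ((FrobSch.frob X p) y))
    (S := X.presheaf.stalk y) ((FrobSch.frob X p).stalkMap y).hom
    ((OX.stalk ((FrobSch.frob X p) y)).obj E) ((OX.stalk y).obj (fM p E))
    ((QCoh.stalkPullbackIso (FrobSch.frob X p) y).app E) (ηSt p E y)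
    (fun v => ((QCoh.stalkPullbackIso (FrobSch.frob X p) y).app E).toLinearEquiv.apply_symm_apply _) b

theorem ηSt_injective {y : X} [IsDomain (X.presheaf.stalk y)] {ι : Type*} [Fintype ι]
    (b : Module.Basis ι (X.presheaf.stalk y) (E.presheaf.stalk y)) : Function.Injective (ηSt p E y) := by
  obtain ⟨B, hB⟩ := exists_basis p E b
  intro v w h
  have key : ∀ u, ηSt p E y u = ∑ i, b.repr u i ^ p • B i := fun u => by
    conv_lhs => rw [← b.sum_repr u]
    rw [ηSt_sum]
    simp only [ηSt_smul, hB]
  refine b.repr.injective (Finsupp.ext fun i => ?_)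
  have := congrArg (fun m => B.repr m i) h
  simp only [key, B.repr_sum_self] at this
  haveI hC : CharP (X.presheaf.stalk y) p := (CharP.charP_iff_prime_eq_zero Fact.out).2 (natCast_stalk p y)
  exact frobenius_inj (X.presheaf.stalk y) p (by simpa [frobenius_def] using this)

section Der

variable {S : Scheme.{u}} (f : X ⟶ S) [QuasiSeparated f]

/-- The sheaf of differentials as a module. -/
abbrev Ω : X.Modules := Omega.sheaf f

/-- The differential on the local ring. -/
def D (y : X) : X.presheaf.stalk y →+ (Ω f).presheaf.stalk y :=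
  AddMonoidHom.mk' (fun a => OmegaUniv.stalkD y (OmegaSh.dOmega f) a)
    (fun a b => (OmegaUniv.stalkD_leibniz y _ a b).2)

theorem D_germ {U : X.Opens} {y : X} (hy : y ∈ U) (a : Γ(X, U)) :
    D f y (X.presheaf.germ U y hy a) = (Ω f).presheaf.germ U y hy ((OmegaSh.dOmega f).app U a) :=
  OmegaUniv.stalkD_germ y _ U hy a

theorem D_mul (y : X) (a b : X.presheaf.stalk y) : D f y (a * b) = a • D f y b + b • D f y a :=
  (OmegaUniv.stalkD_leibniz y _ a b).1

theorem D_one (y : X) : D f y 1 = 0 := by
  have h := D_mul f y 1 1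
  rw [mul_one, one_smul] at h
  exact left_eq_add.1 h

theorem D_pow (y : X) (a : X.presheaf.stalk y) : ∀ n : ℕ,
    D f y (a ^ n) = (n : X.presheaf.stalk y) • a ^ (n - 1) • D f y a
  | 0 => by rw [pow_zero, D_one, Nat.cast_zero, zero_smul]
  | n + 1 => by
    rw [pow_succ, D_mul, D_pow y a n]
    rcases n with - | m
    · simp
    · rw [Nat.add_sub_cancel, Nat.add_sub_cancel, Nat.cast_add (m + 1) 1, Nat.cast_one, add_smul, one_smul,
        smul_smul, smul_smul, smul_smul, pow_succ a m, add_comm]
      congr 2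
      ring

theorem D_pow_char (y : X) (a : X.presheaf.stalk y) : D f y (a ^ p) = 0 := by
  rw [D_pow, natCast_stalk p y, zero_smul]

theorem exists_pow_eq_of_D_eq_zero (y : X) [IsDomain (X.presheaf.stalk y)]
    [IsIntegrallyClosed (X.presheaf.stalk y)]
    (hperf : ∀ r : S.presheaf.stalk (f y), ∃ r', r' ^ p = r) (a : X.presheaf.stalk y) (ha : D f y a = 0) :
    ∃ c, c ^ p = a := by
  letI := OmegaUniv.stalkAlg f y
  haveI : CharP (X.presheaf.stalk y) p := (CharP.charP_iff_prime_eq_zero Fact.out).2 (natCast_stalk p y)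
  have hd := Groth.Agent.S5005.result f
  have h0 : KaehlerDifferential.D (S.presheaf.stalk (f y)) (X.presheaf.stalk y) a = 0 := by
    obtain ⟨U, hy, s, rfl⟩ := X.presheaf.exists_germ_eq a
    rw [← OmegaUniv.stalkEquiv_dg y hd U hy s]
    refine (congrArg _ ?_).trans (map_zero _)
    exact (D_germ f hy s).symm.trans ha
  have hlin : ∀ r : S.presheaf.stalk (f y),
      KaehlerDifferential.D ℤ (X.presheaf.stalk y) (algebraMap _ _ r) = 0 := fun r => by
    obtain ⟨r', rfl⟩ := hperf r
    rw [map_pow, Derivation.leibniz_pow, ← Nat.cast_smul_eq_nsmul (X.presheaf.stalk y),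
      natCast_stalk p y, zero_smul]
  let D' : Derivation (S.presheaf.stalk (f y)) (X.presheaf.stalk y) (KaehlerDifferential ℤ (X.presheaf.stalk y)) :=
    Derivation.mk'
      { toFun := KaehlerDifferential.D ℤ (X.presheaf.stalk y)
        map_add' := map_add _
        map_smul' := fun r x => by
          rw [Algebra.smul_def, Derivation.leibniz, hlin, smul_zero, add_zero, algebraMap_smul,
            RingHom.id_apply] }
      (KaehlerDifferential.D ℤ (X.presheaf.stalk y)).leibniz
  refine KerDField.exists_pow_eq_of_normal p a ?_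
  exact (D'.liftKaehlerDifferential_comp_D a).symm.trans ((congrArg _ h0).trans (map_zero _))

end Der

section Conn

variable {S : Scheme.{u}} (f : X ⟶ S) [QuasiSeparated f] {y : X} {ι : Type*} [Fintype ι]
  (B : Module.Basis ι (X.presheaf.stalk y) ((fM p E).presheaf.stalk y))

/-- The connection with respect to a horizontal basis. -/
def nabla (v : (fM p E).presheaf.stalk y) : (CohB1.tensorMod (fM p E) (Ω f)).presheaf.stalk y :=
  ∑ i, Ref1.tmulStalk (fM p E) (Ω f) y (B i) (D f y (B.repr v i))

theorem nabla_add (v w : (fM p E).presheaf.stalk y) :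
    nabla p E f B (v + w) = nabla p E f B v + nabla p E f B w := by
  simp [nabla, Finset.sum_add_distrib]

theorem nabla_smul (a : X.presheaf.stalk y) (v : (fM p E).presheaf.stalk y) :
    nabla p E f B (a • v) = a • nabla p E f B v + Ref1.tmulStalk (fM p E) (Ω f) y v (D f y a) := by
  have hv : Ref1.tmulStalk (fM p E) (Ω f) y v (D f y a) =
      ∑ i, B.repr v i • Ref1.tmulStalk (fM p E) (Ω f) y (B i) (D f y a) := by
    conv_lhs => rw [← B.sum_repr v]
    rw [map_sum, LinearMap.sum_apply]
    simp only [map_smul, LinearMap.smul_apply]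
  rw [hv]
  simp [nabla, D_mul, map_add, map_smul, Finset.smul_sum, Finset.sum_add_distrib]

variable (b : Module.Basis ι (X.presheaf.stalk y) (E.presheaf.stalk y)) (hB : ∀ i, B i = ηSt p E y (b i))

include hB in
theorem repr_ηSt (u : E.presheaf.stalk y) (i : ι) : B.repr (ηSt p E y u) i = b.repr u i ^ p := by
  have : ηSt p E y u = ∑ i, b.repr u i ^ p • B i := by
    conv_lhs => rw [← b.sum_repr u]
    rw [ηSt_sum]
    simp only [ηSt_smul, hB]
  rw [this, B.repr_sum_self]

include hB in
theorem nabla_ηSt (u : E.presheaf.stalk y) : nabla p E f B (ηSt p E y u) = 0 := by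
  simp [nabla, repr_ηSt p E B b hB, D_pow_char]

include hB in
theorem exists_of_nabla_eq_zero [IsDomain (X.presheaf.stalk y)]
    [IsIntegrallyClosed (X.presheaf.stalk y)]
    (hperf : ∀ r : S.presheaf.stalk (f y), ∃ r', r' ^ p = r)
    (v : (fM p E).presheaf.stalk y) (h : nabla p E f B v = 0) : ∃ u, ηSt p E y u = v := by
  classical
  have hD : ∀ i, D f y (B.repr v i) = 0 := fun i => by
    have h1 := congrArg (fun z => (TensorProduct.lid _ _) (LinearMap.rTensor ((Ω f).presheaf.stalk y) (B.coord i)
      (Ref1.tensorStalk (fM p E) (Ω f) y z))) h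
    simpa [nabla, map_sum, Ref1.tensorStalk_tmulStalk, Finsupp.single_apply] using h1
  choose c hc using fun i => exists_pow_eq_of_D_eq_zero p f y hperf _ (hD i)
  refine ⟨∑ i, c i • b i, ?_⟩
  rw [ηSt_sum]
  conv_rhs => rw [← B.sum_repr v]
  simp only [ηSt_smul, hc, hB]

end Conn

end GrothLib.FrobDer12
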