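import Groth.Agent.Lib.FrobDer12.Main
import Groth.Agent.Lib.FrobDer12.Power
import Groth.Agent.Lib.HilbObs26.ClosedPush
import Groth.Agent.Lib.Seesaw26.Criterion

/-!
# Vanishing of first cohomology through Frobenius
-/

set_option autoImplicit false
set_option linter.all false
set_option backward.isDefEq.respectTransparency false

universe u

open CategoryTheory CategoryTheory.Limits AlgebraicGeometry Opposite TopologicalSpace

noncomputable section

namespace GrothLib.FrobDer12

theorem subsingleton_HH_of_iso {X : Scheme.{u}} {M N : X.Modules} (e : M ≅ N) (n : ℕ)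
    (h : Subsingleton (Coh.HH X M n)) : Subsingleton (Coh.HH X N n) := by
  haveI := h
  refine (Function.Surjective.subsingleton (f := Sheaf.H.map ((QCoh.toAbFun X).map e.hom) n) fun y =>
    ⟨Sheaf.H.map ((QCoh.toAbFun X).map e.inv) n y, ?_⟩)
  rw [← Sheaf.H.map_comp_apply, ← Functor.map_comp, e.inv_hom_id, CategoryTheory.Functor.map_id,
    Sheaf.H.map_id_apply]

/-- If the `p`-th power has no first cohomology and no twisted forms, neither has first cohomology. -/
theorem subsingleton_HH_one_of_pow (k : Type u) [Field k] [IsAlgClosed k] (p : ℕ) [Fact p.Prime] [CharP k p]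
    (X : Scheme.{u}) [X.Over (Spec (CommRingCat.of k))] [QuasiSeparated (X ↘ (Spec (CommRingCat.of k)))]
    (hXn : Pi1.IsNormalScheme X) (M : X.Modules) (hM : PicF.IsInvertible M)
    (h0 : Subsingleton (Coh.HH X (CohB1.tensorMod (CohB1.tensorPow M p) (Omega.sheaf (X ↘ (Spec (CommRingCat.of k))))) 0))
    (h1 : Subsingleton (Coh.HH X (CohB1.tensorPow M p) 1)) :
    Subsingleton (Coh.HH X M 1) := by
  haveI : FrobSch.IsCharP X p := FrobSch.IsCharP.of_hom (X ↘ (Spec (CommRingCat.of k))) p
  haveI := isIso_toPow M p hM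
  let e : fM p M ≅ CohB1.tensorPow M p := asIso (toPow M p hM)
  have h0' := subsingleton_HH_of_iso (((DCoh.tensorBi (X := X)).mapIso e.symm).app _) 0 h0
  have hinj := injective_fUnit_H1 p k
    (fun y r => exists_pow_stalk_spec k p
      (fun a => IsAlgClosed.exists_pow_nat_eq a (Fact.out : p.Prime).pos) _ r) hXn M
    (Euler.isFinLocFree_of_isInvertible hM) h0'
  have hb : Topology.IsClosedEmbedding (FrobSch.frob X p).base := by
    rw [FrobSch.frob_base]; exact Topology.IsClosedEmbedding.id
  obtain ⟨c⟩ := HilbObs26.nonempty_comparison_closed (FrobSch.frob X p).base hb ⊤ 1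
  have h1' : Subsingleton (Coh.HH X (fM p M) 1) := subsingleton_HH_of_iso e.symm 1 h1
  haveI : Subsingleton (Coh.HH X ((Scheme.Modules.pushforward (FrobSch.frob X p)).obj (fM p M)) 1) :=
    @Equiv.subsingleton _ _ ((Cohom.HEquivTop _ 1).trans
      ((c.equiv (Coh.toAb (fM p M)) trivial).symm.trans (Cohom.HEquivTop _ 1).symm)).toEquiv h1'
  exact hinj.subsingleton

end GrothLib.FrobDer12
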